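import Cfsg.Agent.L0.CosetChain

/-! Generated coset table certificate. -/

set_option autoImplicit false
set_option maxRecDepth 100000

open Cfsg.Agent.L0

namespace Cfsg.Agent.H3.G24.Tc1

noncomputable def t0 : BT := .node (.node (.leaf (nat_lit 0x3c18ec2288d2923d39e2d2b19f312d45a2e3088b843d4086b2c1d2ad2d452ee0000b4e48109404503155a4b5118b02192c4a3492924a2950855310446429dd0481a4126b28000462a3284a274ca0aeb3db9aa62b18ea83d34b2c38c8a872da5a6c2a248224bb8ef0004c00021b515c20091b544d115e0471a94e756b488441aa4e44192c645390c49771044ae5930e000314e89212c462892bb8ecb3990a843ba4a2a29956a32da0aa72bb80110041a2b208800f0000a2a43b09416516139290410ce662801c63290c4562128a452aa464a1801a6739594a21800041120884ae8679c00c26149026389147410c00b00280090021c45001c00600140042084000000c8b4020088022008802200880220088022008802200880220088022008802200800400008020000)) (.leaf (nat_lit 0x2fd0fd42ed0b942dd17544dd0bb42f513143d4cf8f20bcf135ed16745fd0af00001794865717e67e997265b997669c9a6269b997269a99b5e79a1668577a727179a6a64130000979b1694b2e4094aa85ba4ab124b0eeb2d30b502918f6e3d2c9aa39b49ea2944ead3cc80002941c6c857815c85953e5a5662d245b816505a416585d817204121ddc594ac6479425d80003dd8cca3)))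 (.leaf (nat_lit 0x2b24ed12c1544c5ac0ad03d44b322e38ecd2dc4bd13bacb682090aec2c18ed40000e326571975efc7a75e7e7965e9879fde947955e9779f686c9a5a600a2f5ef57a5de4120000927b168cb4a5c48f462b10f0d2da08232dc0bad2920b0a3d48b114b10b052c18b4c2c200003ca1b1c45362c165a8a50e524165c562971c5b315e05459e9854934944119590569259a000188ccae2290ca4d21c0c224448eb121a8b062dc8f113db4baa3924a86282ced03cb8b110000b114ff0945a6f19d4916313944c49624a1113d4ea49ee4556a09058823d852213caed48000494a55849c52cb89876c448e936acc4c672ca442088b8c2cb8a6d5648dd23624ea367a80009811274255215605893346eb5a1945821a4e62392d65a31044b3314d878893545139396000421691e1))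

noncomputable def tree : BT := t0

noncomputable def row : ℕ → ℕ := rowOf tree (nat_lit 3) (nat_lit 7) (nat_lit 297) (nat_lit 0x1ffffffffffffffffffffffffffffffffffffffffffffffffffffffffffffffffffffffffff)

noncomputable def cols : List Col := [⟨nat_lit 17, nat_lit 1, [([nat_lit 17], nat_lit 0), ([nat_lit 87, nat_lit 17, nat_lit 87], nat_lit 0), ([nat_lit 45, nat_lit 17, nat_lit 45, nat_lit 17, nat_lit 45], nat_lit 0), ([nat_lit 213, nat_lit 73, nat_lit 227], nat_lit 0), ([nat_lit 101, nat_lit 73, nat_lit 115], nat_lit 0), ([nat_lit 73, nat_lit 213, nat_lit 17, nat_lit 227], nat_lit 0), ([nat_lit 185, nat_lit 185, nat_lit 73, nat_lit 185], nat_lit 0), ([nat_lit 59, nat_lit 45, nat_lit 59, nat_lit 17, nat_lit 45, nat_lit 157, nat_lit 45], nat_lit 0)]⟩,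
  ⟨nat_lit 45, nat_lit 0, [([nat_lit 45], nat_lit 0), ([nat_lit 115, nat_lit 73, nat_lit 45, nat_lit 101, nat_lit 213, nat_lit 17], nat_lit 0), ([nat_lit 101, nat_lit 213, nat_lit 17, nat_lit 45, nat_lit 115, nat_lit 73], nat_lit 0), ([nat_lit 17, nat_lit 45, nat_lit 17, nat_lit 45, nat_lit 17], nat_lit 0), ([nat_lit 185, nat_lit 17, nat_lit 45, nat_lit 227, nat_lit 185, nat_lit 213, nat_lit 73], nat_lit 0), ([nat_lit 227, nat_lit 185, nat_lit 213, nat_lit 73, nat_lit 45, nat_lit 185, nat_lit 17], nat_lit 0)]⟩,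
  ⟨nat_lit 59, nat_lit 1, [([nat_lit 59], nat_lit 0), ([nat_lit 87, nat_lit 241, nat_lit 241], nat_lit 0), ([nat_lit 45, nat_lit 59, nat_lit 17, nat_lit 45, nat_lit 157, nat_lit 45, nat_lit 17], nat_lit 0), ([nat_lit 45, nat_lit 129, nat_lit 45, nat_lit 87, nat_lit 101, nat_lit 45, nat_lit 73], nat_lit 0)]⟩,
  ⟨nat_lit 73, nat_lit 1, [([nat_lit 73], nat_lit 0), ([nat_lit 227, nat_lit 17, nat_lit 213], nat_lit 0), ([nat_lit 241, nat_lit 73, nat_lit 241], nat_lit 0), ([nat_lit 115, nat_lit 17, nat_lit 101], nat_lit 0), ([nat_lit 213, nat_lit 17, nat_lit 227, nat_lit 17], nat_lit 0), ([nat_lit 185, nat_lit 17, nat_lit 185, nat_lit 185], nat_lit 0), ([nat_lit 45, nat_lit 101, nat_lit 213, nat_lit 17, nat_lit 45, nat_lit 115], nat_lit 0)]⟩,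
  ⟨nat_lit 87, nat_lit 1, [([nat_lit 87], nat_lit 0), ([nat_lit 269, nat_lit 269], nat_lit 0), ([nat_lit 241, nat_lit 241, nat_lit 59], nat_lit 0), ([nat_lit 101, nat_lit 45, nat_lit 73, nat_lit 59, nat_lit 45, nat_lit 129, nat_lit 45], nat_lit 0)]⟩,
  ⟨nat_lit 101, nat_lit 1, [([nat_lit 115], nat_lit 0), ([nat_lit 101, nat_lit 101], nat_lit 0), ([nat_lit 157, nat_lit 115, nat_lit 199], nat_lit 0), ([nat_lit 269, nat_lit 115, nat_lit 241], nat_lit 0), ([nat_lit 45, nat_lit 73, nat_lit 59, nat_lit 45, nat_lit 129, nat_lit 45, nat_lit 87], nat_lit 0)]⟩,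
  ⟨nat_lit 115, nat_lit 1, [([nat_lit 101], nat_lit 0), ([nat_lit 241, nat_lit 101, nat_lit 269], nat_lit 0), ([nat_lit 143, nat_lit 171], nat_lit 0), ([nat_lit 17, nat_lit 101, nat_lit 73], nat_lit 0), ([nat_lit 199, nat_lit 101, nat_lit 157], nat_lit 0), ([nat_lit 73, nat_lit 45, nat_lit 101, nat_lit 213, nat_lit 17, nat_lit 45], nat_lit 0)]⟩,
  ⟨nat_lit 129, nat_lit 1, [([nat_lit 143], nat_lit 0), ([nat_lit 45, nat_lit 87, nat_lit 101, nat_lit 45, nat_lit 73, nat_lit 59, nat_lit 45], nat_lit 0)]⟩,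
  ⟨nat_lit 143, nat_lit 1, [([nat_lit 171, nat_lit 115], nat_lit 0), ([nat_lit 129], nat_lit 0)]⟩,
  ⟨nat_lit 157, nat_lit 1, [([nat_lit 157], nat_lit 0), ([nat_lit 269, nat_lit 157, nat_lit 269], nat_lit 0), ([nat_lit 45, nat_lit 17, nat_lit 59, nat_lit 45, nat_lit 59, nat_lit 17, nat_lit 45], nat_lit 0), ([nat_lit 73, nat_lit 17, nat_lit 185, nat_lit 213], nat_lit 0), ([nat_lit 199, nat_lit 241], nat_lit 0), ([nat_lit 185, nat_lit 227, nat_lit 157, nat_lit 185, nat_lit 17], nat_lit 0)]⟩,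
  ⟨nat_lit 171, nat_lit 1, [([nat_lit 185], nat_lit 0), ([nat_lit 115, nat_lit 143], nat_lit 0)]⟩,
  ⟨nat_lit 185, nat_lit 1, [([nat_lit 213, nat_lit 157, nat_lit 73, nat_lit 17], nat_lit 0), ([nat_lit 73, nat_lit 185, nat_lit 17, nat_lit 185], nat_lit 0), ([nat_lit 17, nat_lit 45, nat_lit 227, nat_lit 185, nat_lit 213, nat_lit 73, nat_lit 45], nat_lit 0), ([nat_lit 171], nat_lit 0), ([nat_lit 17, nat_lit 185, nat_lit 185, nat_lit 73], nat_lit 0), ([nat_lit 213, nat_lit 73, nat_lit 45, nat_lit 185, nat_lit 17, nat_lit 45, nat_lit 227], nat_lit 0)]⟩,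
  ⟨nat_lit 199, nat_lit 1, [([nat_lit 199], nat_lit 0), ([nat_lit 241, nat_lit 157], nat_lit 0), ([nat_lit 101, nat_lit 157, nat_lit 115], nat_lit 0)]⟩,
  ⟨nat_lit 213, nat_lit 1, [([nat_lit 227], nat_lit 0), ([nat_lit 213, nat_lit 213], nat_lit 0), ([nat_lit 157, nat_lit 73, nat_lit 17, nat_lit 185], nat_lit 0), ([nat_lit 115, nat_lit 17, nat_lit 227, nat_lit 101], nat_lit 0), ([nat_lit 17, nat_lit 227, nat_lit 17, nat_lit 73], nat_lit 0), ([nat_lit 269, nat_lit 17, nat_lit 227, nat_lit 269, nat_lit 241], nat_lit 0), ([nat_lit 17, nat_lit 45, nat_lit 115, nat_lit 73, nat_lit 45, nat_lit 101], nat_lit 0)]⟩,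
  ⟨nat_lit 227, nat_lit 1, [([nat_lit 213], nat_lit 0), ([nat_lit 17, nat_lit 213, nat_lit 73], nat_lit 0), ([nat_lit 269, nat_lit 73, nat_lit 213, nat_lit 255], nat_lit 0), ([nat_lit 17, nat_lit 73, nat_lit 213, nat_lit 17], nat_lit 0), ([nat_lit 101, nat_lit 213, nat_lit 115, nat_lit 17], nat_lit 0), ([nat_lit 157, nat_lit 185, nat_lit 17, nat_lit 157, nat_lit 185], nat_lit 0)]⟩,
  ⟨nat_lit 241, nat_lit 1, [([nat_lit 157, nat_lit 199], nat_lit 0), ([nat_lit 255], nat_lit 0), ([nat_lit 101, nat_lit 269, nat_lit 115], nat_lit 0), ([nat_lit 241, nat_lit 59, nat_lit 87], nat_lit 0), ([nat_lit 73, nat_lit 241, nat_lit 73], nat_lit 0), ([nat_lit 59, nat_lit 87, nat_lit 241], nat_lit 0), ([nat_lit 283, nat_lit 255, nat_lit 269], nat_lit 0)]⟩,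
  ⟨nat_lit 255, nat_lit 1, [([nat_lit 241], nat_lit 0), ([nat_lit 269, nat_lit 241, nat_lit 283], nat_lit 0), ([nat_lit 227, nat_lit 269, nat_lit 73, nat_lit 213], nat_lit 0)]⟩,
  ⟨nat_lit 269, nat_lit 1, [([nat_lit 87, nat_lit 269], nat_lit 0), ([nat_lit 73, nat_lit 213, nat_lit 255, nat_lit 227], nat_lit 0), ([nat_lit 283], nat_lit 0), ([nat_lit 269, nat_lit 87], nat_lit 0), ([nat_lit 241, nat_lit 283, nat_lit 255], nat_lit 0), ([nat_lit 115, nat_lit 241, nat_lit 101], nat_lit 0), ([nat_lit 241, nat_lit 213, nat_lit 269, nat_lit 17, nat_lit 227], nat_lit 0)]⟩,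
  ⟨nat_lit 283, nat_lit 1, [([nat_lit 269], nat_lit 0), ([nat_lit 255, nat_lit 269, nat_lit 241], nat_lit 0)]⟩]

noncomputable def erots : List (List ℕ × ℕ) := []

noncomputable def gens : List ℕ := [nat_lit 17, nat_lit 45, nat_lit 59, nat_lit 73, nat_lit 87, nat_lit 101, nat_lit 115, nat_lit 129, nat_lit 143, nat_lit 157, nat_lit 171, nat_lit 185, nat_lit 199, nat_lit 213, nat_lit 227, nat_lit 241, nat_lit 255, nat_lit 269, nat_lit 283]

noncomputable def chk : ℕ → Bool := chkRow0 row (nat_lit 20) (nat_lit 0x1f) (nat_lit 0x3e0) (nat_lit 10) (nat_lit 0xf) (nat_lit 0) (nat_lit 0x1f) (nat_lit 5) (nat_lit 0x1ff) (nat_lit 0x1c000) [] cols gens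

theorem b0 : allR chk 5 0 = true := by decide +kernel

noncomputable def T : CT := ⟨row, nat_lit 20, nat_lit 20, nat_lit 0x1f, nat_lit 0x3e0, nat_lit 10, nat_lit 0xf, nat_lit 0, nat_lit 0x1f, nat_lit 5, nat_lit 0x1ff, nat_lit 0x1c000, nat_lit 297, nat_lit 297, nat_lit 0, nat_lit 8, [], cols, erots, gens⟩

theorem all : ∀ c < 20, chk c = true := fun c hc =>
  allR_glue (d := 5) (n := 1) (forall_lt_succ' forall_lt_zero' b0) c (lt_of_lt_of_le hc (by norm_num))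

/-- the relators used -/
def R : List (List ℕ) := [[nat_lit 0, nat_lit 0],
  [nat_lit 2, nat_lit 2],
  [nat_lit 3, nat_lit 3],
  [nat_lit 4, nat_lit 4],
  [nat_lit 5, nat_lit 5],
  [nat_lit 6, nat_lit 7],
  [nat_lit 8, nat_lit 9],
  [nat_lit 10, nat_lit 10],
  [nat_lit 11, nat_lit 12],
  [nat_lit 13, nat_lit 13],
  [nat_lit 14, nat_lit 15],
  [nat_lit 16, nat_lit 17],
  [nat_lit 18, nat_lit 19],
  [nat_lit 2, nat_lit 5, nat_lit 6, nat_lit 2, nat_lit 4, nat_lit 3, nat_lit 2, nat_lit 8],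
  [nat_lit 2, nat_lit 0, nat_lit 3, nat_lit 2, nat_lit 3, nat_lit 0, nat_lit 2, nat_lit 10],
  [nat_lit 7, nat_lit 9, nat_lit 11],
  [nat_lit 6, nat_lit 10, nat_lit 7, nat_lit 13],
  [nat_lit 10, nat_lit 4, nat_lit 0, nat_lit 12, nat_lit 14],
  [nat_lit 10, nat_lit 13, nat_lit 16],
  [nat_lit 4, nat_lit 14, nat_lit 17, nat_lit 15, nat_lit 18],
  [nat_lit 5, nat_lit 18, nat_lit 18],
  [nat_lit 5, nat_lit 16, nat_lit 16, nat_lit 3],
  [nat_lit 18, nat_lit 16, nat_lit 19, nat_lit 17],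
  [nat_lit 14, nat_lit 14, nat_lit 14],
  [nat_lit 4, nat_lit 16, nat_lit 4, nat_lit 16],
  [nat_lit 14, nat_lit 4, nat_lit 15, nat_lit 0],
  [nat_lit 0, nat_lit 4, nat_lit 14, nat_lit 0, nat_lit 15],
  [nat_lit 14, nat_lit 18, nat_lit 0, nat_lit 15, nat_lit 18, nat_lit 16],
  [nat_lit 10, nat_lit 18, nat_lit 10, nat_lit 18],
  [nat_lit 12, nat_lit 0, nat_lit 12, nat_lit 12, nat_lit 4],
  [nat_lit 0, nat_lit 10, nat_lit 12, nat_lit 15, nat_lit 10, nat_lit 12],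
  [nat_lit 6, nat_lit 6, nat_lit 6],
  [nat_lit 6, nat_lit 18, nat_lit 7, nat_lit 16],
  [nat_lit 6, nat_lit 14, nat_lit 7, nat_lit 0, nat_lit 15],
  [nat_lit 2, nat_lit 0, nat_lit 2, nat_lit 0, nat_lit 2, nat_lit 0],
  [nat_lit 2, nat_lit 7, nat_lit 4, nat_lit 2, nat_lit 6, nat_lit 14, nat_lit 0],
  [nat_lit 2, nat_lit 12, nat_lit 0, nat_lit 2, nat_lit 15, nat_lit 12, nat_lit 14, nat_lit 4],
  [nat_lit 5, nat_lit 0, nat_lit 5, nat_lit 0],
  [nat_lit 7, nat_lit 0, nat_lit 6, nat_lit 4]]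

theorem cert : Cert T (R.map fun r => (r, 0)) ([0, 3, 4, 5, 6, 7, 8, 9, 10, 11, 12, 13, 14, 15, 16, 17, 18, 19].map fun y => (y, 0)) 17 14 [0, 2, 3, 4, 5, 6, 7, 8, 9, 10, 11, 12, 13, 14, 15, 16, 17, 18, 19] :=
  ⟨by decide +kernel, ⟨[[(0, 0), (37, 1), (34, 1), (25, 3), (38, 1), (26, 0), (29, 1), (14, 1)], [(1, 0), (35, 0), (35, 3), (34, 0), (36, 0), (36, 3)], [(2, 0), (21, 3), (14, 2), (13, 5)], [(3, 0), (25, 1), (24, 0), (38, 3), (26, 1), (29, 4), (35, 2)], [(4, 0), (20, 0), (21, 0), (13, 1)], [(5, 0), (31, 0), (16, 0), (32, 0), (13, 2)], [(5, 1), (32, 2), (15, 0), (38, 0), (16, 2), (35, 1)], [(6, 0), (13, 7)], [(15, 1), (6, 1)], [(7, 0), (28, 0), (14, 7), (17, 0), (18, 0), (30, 1)], [(8, 0), (15, 2)], [(17, 3), (29, 3), (36, 1), (8, 1), (29, 0), (36, 5)], [(9, 0), (18, 1), (16, 3)], [(10, 0), (23, 0), (17, 4), (33, 1), (26, 2), (27, 0), (35, 5)], [(10, 1), (25, 2), (19, 3), (26, 4), (33, 4), (30,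 3)], [(18, 2), (11, 0), (32, 3), (21, 1), (24, 1), (21, 2), (22, 1)], [(11, 1), (22, 3), (19, 2)], [(20, 2), (19, 4), (12, 0), (20, 1), (22, 0), (32, 1), (27, 4)], [(12, 1), (22, 2)]], [], by decide +kernel⟩, by decide +kernel, Or.inl ⟨rfl, all⟩⟩

theorem bound {Γ : Type*} [Group Γ] {x : ℕ → Γ} (hR : ∀ r ∈ R, ev x r = 1) {n : ℕ}
    (h : CardLe x [0, 3, 4, 5, 6, 7, 8, 9, 10, 11, 12, 13, 14, 15, 16, 17, 18, 19] n) : CardLe x [0, 2, 3, 4, 5, 6, 7, 8, 9, 10, 11, 12, 13, 14, 15, 16, 17, 18, 19] (20 * n) :=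
  cert.cardLe rfl hR h

end Cfsg.Agent.H3.G24.Tc1
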