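import Cfsg.Agent.L0.CosetChain

/-! Generated coset table certificate. -/

set_option autoImplicit false
set_option maxRecDepth 100000

open Cfsg.Agent.L0

namespace Cfsg.Agent.H3.G24.Tc2

noncomputable def t0 : BT := .leaf (nat_lit 0x13f371f979f2797373f1f0b4d1d0b3f2f460001974323a2b4a5a3b2a6a5a6b2a8e86172e3b2a6800024a7620a0a0a0a0a0a0a0a0a0cf45818120a0a0800020800)

noncomputable def tree : BT := t0

noncomputable def row : ℕ → ℕ := rowOf tree (nat_lit 3) (nat_lit 7) (nat_lit 171) (nat_lit 0x7ffffffffffffffffffffffffffffffffffffffffff)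

noncomputable def cols : List Col := [⟨nat_lit 11, nat_lit 1, [([nat_lit 123, nat_lit 43, nat_lit 131], nat_lit 0), ([nat_lit 59, nat_lit 43, nat_lit 67], nat_lit 0)]⟩,
  ⟨nat_lit 35, nat_lit 1, [([nat_lit 51, nat_lit 139, nat_lit 139], nat_lit 0)]⟩,
  ⟨nat_lit 43, nat_lit 1, [([nat_lit 131, nat_lit 11, nat_lit 123], nat_lit 0), ([nat_lit 67, nat_lit 11, nat_lit 59], nat_lit 0)]⟩,
  ⟨nat_lit 51, nat_lit 1, [([nat_lit 155, nat_lit 155], nat_lit 0)]⟩,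
  ⟨nat_lit 59, nat_lit 0, [([nat_lit 67], nat_lit 0), ([nat_lit 59, nat_lit 59], nat_lit 0)]⟩,
  ⟨nat_lit 67, nat_lit 0, [([nat_lit 59], nat_lit 0)]⟩,
  ⟨nat_lit 75, nat_lit 0, [([nat_lit 83], nat_lit 0)]⟩,
  ⟨nat_lit 83, nat_lit 0, [([nat_lit 99, nat_lit 67], nat_lit 0)]⟩,
  ⟨nat_lit 91, nat_lit 1, [([nat_lit 115, nat_lit 139], nat_lit 0), ([nat_lit 67, nat_lit 115, nat_lit 59], nat_lit 0)]⟩,
  ⟨nat_lit 99, nat_lit 1, [([nat_lit 107], nat_lit 0)]⟩,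
  ⟨nat_lit 107, nat_lit 1, [([nat_lit 123, nat_lit 91, nat_lit 43, nat_lit 11], nat_lit 0)]⟩,
  ⟨nat_lit 115, nat_lit 1, [([nat_lit 139, nat_lit 91], nat_lit 0), ([nat_lit 59, nat_lit 91, nat_lit 67], nat_lit 0)]⟩,
  ⟨nat_lit 123, nat_lit 1, [([nat_lit 131], nat_lit 0), ([nat_lit 67, nat_lit 11, nat_lit 131, nat_lit 59], nat_lit 0)]⟩,
  ⟨nat_lit 131, nat_lit 1, [([nat_lit 123], nat_lit 0), ([nat_lit 59, nat_lit 123, nat_lit 67, nat_lit 11], nat_lit 0)]⟩,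
  ⟨nat_lit 139, nat_lit 1, [([nat_lit 147], nat_lit 0), ([nat_lit 59, nat_lit 155, nat_lit 67], nat_lit 0)]⟩,
  ⟨nat_lit 147, nat_lit 1, [([nat_lit 139], nat_lit 0), ([nat_lit 131, nat_lit 155, nat_lit 43, nat_lit 123], nat_lit 0)]⟩,
  ⟨nat_lit 155, nat_lit 1, [([nat_lit 67, nat_lit 139, nat_lit 59], nat_lit 0)]⟩,
  ⟨nat_lit 163, nat_lit 1, [([nat_lit 155], nat_lit 0)]⟩]

noncomputable def erots : List (List ℕ × ℕ) := []

noncomputable def gens : List ℕ := [nat_lit 11, nat_lit 35, nat_lit 43, nat_lit 51, nat_lit 59, nat_lit 67, nat_lit 75, nat_lit 83, nat_lit 91, nat_lit 99, nat_lit 107, nat_lit 115, nat_lit 123, nat_lit 131, nat_lit 139, nat_lit 147, nat_lit 155, nat_lit 163]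

noncomputable def chk : ℕ → Bool := chkRow0 row (nat_lit 3) (nat_lit 0x3) (nat_lit 0x3c) (nat_lit 6) (nat_lit 0x3) (nat_lit 0) (nat_lit 0x3) (nat_lit 2) (nat_lit 0xff) (nat_lit 0x400) [] cols gens

theorem b0 : allR chk 2 0 = true := by decide +kernel

noncomputable def T : CT := ⟨row, nat_lit 3, nat_lit 3, nat_lit 0x3, nat_lit 0x3c, nat_lit 6, nat_lit 0x3, nat_lit 0, nat_lit 0x3, nat_lit 2, nat_lit 0xff, nat_lit 0x400, nat_lit 171, nat_lit 171, nat_lit 0, nat_lit 5, [], cols, erots, gens⟩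

theorem all : ∀ c < 3, chk c = true := fun c hc =>
  allR_glue (d := 2) (n := 1) (forall_lt_succ' forall_lt_zero' b0) c (lt_of_lt_of_le hc (by norm_num))

/-- the relators used -/
def R : List (List ℕ) := [[nat_lit 6, nat_lit 7],
  [nat_lit 8, nat_lit 9],
  [nat_lit 11, nat_lit 12],
  [nat_lit 14, nat_lit 15],
  [nat_lit 16, nat_lit 17],
  [nat_lit 18, nat_lit 19],
  [nat_lit 7, nat_lit 9, nat_lit 11],
  [nat_lit 6, nat_lit 10, nat_lit 7, nat_lit 13],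
  [nat_lit 10, nat_lit 4, nat_lit 0, nat_lit 12, nat_lit 14],
  [nat_lit 10, nat_lit 13, nat_lit 16],
  [nat_lit 4, nat_lit 14, nat_lit 17, nat_lit 15, nat_lit 18],
  [nat_lit 5, nat_lit 18, nat_lit 18],
  [nat_lit 5, nat_lit 16, nat_lit 16, nat_lit 3],
  [nat_lit 14, nat_lit 4, nat_lit 15, nat_lit 0],
  [nat_lit 6, nat_lit 6, nat_lit 6],
  [nat_lit 6, nat_lit 18, nat_lit 7, nat_lit 16],
  [nat_lit 6, nat_lit 14, nat_lit 7, nat_lit 0, nat_lit 15],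
  [nat_lit 7, nat_lit 0, nat_lit 6, nat_lit 4]]

theorem cert : Cert T (R.map fun r => (r, 0)) ([0, 3, 4, 5, 10, 11, 12, 13, 14, 15, 16, 17, 18, 19].map fun y => (y, 0)) 11 8 [0, 3, 4, 5, 6, 7, 8, 9, 10, 11, 12, 13, 14, 15, 16, 17, 18, 19] :=
  ⟨by decide +kernel, ⟨[[(13, 3), (17, 1)], [(12, 3)], [(13, 1), (17, 3)], [(11, 0)], [(0, 0), (14, 0)], [(0, 1)], [(1, 0)], [(6, 1)], [(9, 0), (7, 1)], [(2, 0)], [(8, 3)], [(9, 1), (7, 3)], [(3, 0), (16, 1)], [(3, 1), (16, 4)], [(4, 0), (15, 3)], [(4, 1), (10, 2)], [(15, 1)], [(5, 1)]], [], by decide +kernel⟩, by decide +kernel, Or.inl ⟨rfl, all⟩⟩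

theorem bound {Γ : Type*} [Group Γ] {x : ℕ → Γ} (hR : ∀ r ∈ R, ev x r = 1) {n : ℕ}
    (h : CardLe x [0, 3, 4, 5, 10, 11, 12, 13, 14, 15, 16, 17, 18, 19] n) : CardLe x [0, 3, 4, 5, 6, 7, 8, 9, 10, 11, 12, 13, 14, 15, 16, 17, 18, 19] (3 * n) :=
  cert.cardLe rfl hR h

end Cfsg.Agent.H3.G24.Tc2
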