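import Cfsg.Agent.L0.CosetChain

/-! Generated coset table certificate. -/

set_option autoImplicit false
set_option maxRecDepth 100000

open Cfsg.Agent.L0

namespace Cfsg.Agent.H3.G24.Tc3

noncomputable def t0 : BT := .node (.leaf (nat_lit 0x4f427214109e84c445a1b4710c411250c00000000000013d19485040000000d2895814c556aa31960c4c85515496c224e726400000000000001b0f14a513800000094c93e1533391914d086645293541f9ce486373c00000000000014cc82254300000010438881502b79538b1a54b380413dc00f4820038000000000000190b0c34e2800000082282014b634313d4dea444c10801b0e5410a4a400000000000012c8ccc5020000000c4a55804e1c68e2c6d83006002d390c2100554a000000000000013868e54f1800000086653e043121091048624320025842008003a08400000000000010c400644100000000055240200900480240120090050840040018008000000000000080240120080000004010000)) (.leaf (nat_lit 0x516c6b5516deb412b59db98a6b4e5b59c0000000000001460c495480000000a6dd8c4547a9bd49ea2f517c83dbcd18a412a798000000000000151fdaf5578000000dafd584517283945ca0eb0728b9b8bda74f32094000000000000145ce4e5270000000deed2444e868414929297132929048a89544c728000000000000145aa2b52680000016509723492251144eda7435a08d3e14e649424ac00000000000012d88e451600000011279a62474a525ba1670411b131c4e9b0548343000000000000012d760d54580000008a998c24e3b59db891c4916a299412c234d7a7b40000000000001b14967505000000086493e24b5f32d29aa2d4113191bd4a6d556e41000000000000012d2870524800000188b98c1))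

noncomputable def tree : BT := t0

noncomputable def row : ℕ → ℕ := rowOf tree (nat_lit 3) (nat_lit 7) (nat_lit 276) (nat_lit 0xfffffffffffffffffffffffffffffffffffffffffffffffffffffffffffffffffffff)

noncomputable def cols : List Col := [⟨nat_lit 16, nat_lit 1, [([nat_lit 16], nat_lit 0), ([nat_lit 172, nat_lit 172, nat_lit 68, nat_lit 172], nat_lit 0), ([nat_lit 172, nat_lit 198, nat_lit 146, nat_lit 68], nat_lit 0), ([nat_lit 198, nat_lit 68, nat_lit 211], nat_lit 0), ([nat_lit 211, nat_lit 16, nat_lit 68, nat_lit 198], nat_lit 0)]⟩,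
  ⟨nat_lit 55, nat_lit 1, [([nat_lit 81, nat_lit 224, nat_lit 224], nat_lit 0)]⟩,
  ⟨nat_lit 68, nat_lit 1, [([nat_lit 68], nat_lit 0), ([nat_lit 211, nat_lit 16, nat_lit 198], nat_lit 0), ([nat_lit 198, nat_lit 16, nat_lit 211, nat_lit 16], nat_lit 0), ([nat_lit 224, nat_lit 68, nat_lit 224], nat_lit 0), ([nat_lit 16, nat_lit 172, nat_lit 198, nat_lit 146], nat_lit 0), ([nat_lit 172, nat_lit 16, nat_lit 172, nat_lit 172], nat_lit 0)]⟩,
  ⟨nat_lit 81, nat_lit 1, [([nat_lit 250, nat_lit 250], nat_lit 0), ([nat_lit 16, nat_lit 81, nat_lit 16], nat_lit 0)]⟩,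
  ⟨nat_lit 146, nat_lit 0, [([nat_lit 146], nat_lit 0), ([nat_lit 68, nat_lit 16, nat_lit 172, nat_lit 198], nat_lit 0), ([nat_lit 250, nat_lit 146, nat_lit 250], nat_lit 0), ([nat_lit 172, nat_lit 211, nat_lit 146, nat_lit 172, nat_lit 16], nat_lit 0), ([nat_lit 172, nat_lit 16, nat_lit 146, nat_lit 172, nat_lit 211], nat_lit 0)]⟩,
  ⟨nat_lit 159, nat_lit 0, [([nat_lit 172], nat_lit 0)]⟩,
  ⟨nat_lit 172, nat_lit 0, [([nat_lit 198, nat_lit 146, nat_lit 68, nat_lit 16], nat_lit 0), ([nat_lit 159], nat_lit 0), ([nat_lit 68, nat_lit 172, nat_lit 16, nat_lit 172], nat_lit 0), ([nat_lit 16, nat_lit 172, nat_lit 172, nat_lit 68], nat_lit 0), ([nat_lit 172, nat_lit 68, nat_lit 172, nat_lit 16], nat_lit 0), ([nat_lit 211, nat_lit 146, nat_lit 172, nat_lit 16, nat_lit 146], nat_lit 0)]⟩,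
  ⟨nat_lit 185, nat_lit 0, [([nat_lit 185], nat_lit 0), ([nat_lit 224, nat_lit 146], nat_lit 0)]⟩,
  ⟨nat_lit 198, nat_lit 1, [([nat_lit 211], nat_lit 0), ([nat_lit 198, nat_lit 198], nat_lit 0), ([nat_lit 146, nat_lit 68, nat_lit 16, nat_lit 172], nat_lit 0), ([nat_lit 68, nat_lit 211, nat_lit 16], nat_lit 0)]⟩,
  ⟨nat_lit 211, nat_lit 1, [([nat_lit 198], nat_lit 0), ([nat_lit 16, nat_lit 198, nat_lit 68], nat_lit 0), ([nat_lit 250, nat_lit 68, nat_lit 198, nat_lit 237], nat_lit 0), ([nat_lit 146, nat_lit 172, nat_lit 16, nat_lit 146, nat_lit 172], nat_lit 0)]⟩,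
  ⟨nat_lit 224, nat_lit 1, [([nat_lit 146, nat_lit 185], nat_lit 0), ([nat_lit 237], nat_lit 0), ([nat_lit 68, nat_lit 224, nat_lit 68], nat_lit 0), ([nat_lit 263, nat_lit 237, nat_lit 250], nat_lit 0)]⟩,
  ⟨nat_lit 237, nat_lit 1, [([nat_lit 224], nat_lit 0), ([nat_lit 250, nat_lit 224, nat_lit 263], nat_lit 0), ([nat_lit 211, nat_lit 250, nat_lit 68, nat_lit 198], nat_lit 0)]⟩,
  ⟨nat_lit 250, nat_lit 1, [([nat_lit 146, nat_lit 250, nat_lit 146], nat_lit 0), ([nat_lit 68, nat_lit 198, nat_lit 237, nat_lit 211], nat_lit 0), ([nat_lit 224, nat_lit 198, nat_lit 250, nat_lit 16, nat_lit 211], nat_lit 0), ([nat_lit 250, nat_lit 81], nat_lit 0), ([nat_lit 224, nat_lit 263, nat_lit 237], nat_lit 0), ([nat_lit 16, nat_lit 211, nat_lit 250, nat_lit 224, nat_lit 198], nat_lit 0)]⟩,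
  ⟨nat_lit 263, nat_lit 1, [([nat_lit 250], nat_lit 0)]⟩]

noncomputable def erots : List (List ℕ × ℕ) := []

noncomputable def gens : List ℕ := [nat_lit 16, nat_lit 55, nat_lit 68, nat_lit 81, nat_lit 146, nat_lit 159, nat_lit 172, nat_lit 185, nat_lit 198, nat_lit 211, nat_lit 224, nat_lit 237, nat_lit 250, nat_lit 263]

noncomputable def chk : ℕ → Bool := chkRow0 row (nat_lit 16) (nat_lit 0x1f) (nat_lit 0x3e0) (nat_lit 10) (nat_lit 0x7) (nat_lit 0) (nat_lit 0x1f) (nat_lit 5) (nat_lit 0x1ff) (nat_lit 0xc000) [] cols gens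

theorem b0 : allR chk 4 0 = true := by decide +kernel

noncomputable def T : CT := ⟨row, nat_lit 16, nat_lit 16, nat_lit 0x1f, nat_lit 0x3e0, nat_lit 10, nat_lit 0x7, nat_lit 0, nat_lit 0x1f, nat_lit 5, nat_lit 0x1ff, nat_lit 0xc000, nat_lit 276, nat_lit 276, nat_lit 0, nat_lit 6, [], cols, erots, gens⟩

theorem all : ∀ c < 16, chk c = true := fun c hc =>
  allR_glue (d := 4) (n := 1) (forall_lt_succ' forall_lt_zero' b0) c (lt_of_lt_of_le hc (by norm_num))

/-- the relators used -/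
def R : List (List ℕ) := [[nat_lit 0, nat_lit 0],
  [nat_lit 4, nat_lit 4],
  [nat_lit 10, nat_lit 10],
  [nat_lit 11, nat_lit 12],
  [nat_lit 13, nat_lit 13],
  [nat_lit 14, nat_lit 15],
  [nat_lit 16, nat_lit 17],
  [nat_lit 18, nat_lit 19],
  [nat_lit 10, nat_lit 4, nat_lit 0, nat_lit 12, nat_lit 14],
  [nat_lit 10, nat_lit 13, nat_lit 16],
  [nat_lit 4, nat_lit 14, nat_lit 17, nat_lit 15, nat_lit 18],
  [nat_lit 5, nat_lit 18, nat_lit 18],
  [nat_lit 5, nat_lit 16, nat_lit 16, nat_lit 3],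
  [nat_lit 18, nat_lit 16, nat_lit 19, nat_lit 17],
  [nat_lit 14, nat_lit 14, nat_lit 14],
  [nat_lit 4, nat_lit 16, nat_lit 4, nat_lit 16],
  [nat_lit 14, nat_lit 4, nat_lit 15, nat_lit 0],
  [nat_lit 0, nat_lit 4, nat_lit 14, nat_lit 0, nat_lit 15],
  [nat_lit 14, nat_lit 18, nat_lit 0, nat_lit 15, nat_lit 18, nat_lit 16],
  [nat_lit 10, nat_lit 18, nat_lit 10, nat_lit 18],
  [nat_lit 12, nat_lit 0, nat_lit 12, nat_lit 12, nat_lit 4],
  [nat_lit 0, nat_lit 10, nat_lit 12, nat_lit 15, nat_lit 10, nat_lit 12],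
  [nat_lit 5, nat_lit 0, nat_lit 5, nat_lit 0]]

theorem cert : Cert T (R.map fun r => (r, 0)) ([0, 3, 4, 5, 14, 15, 16, 17, 18, 19].map fun y => (y, 0)) 16 13 [0, 3, 4, 5, 10, 11, 12, 13, 14, 15, 16, 17, 18, 19] :=
  ⟨by decide +kernel, ⟨[[(0, 0), (20, 1), (8, 2), (16, 3), (17, 3)], [(12, 3)], [(1, 0), (16, 1), (17, 1), (15, 0), (8, 1), (20, 4)], [(11, 0), (22, 0)], [(2, 0), (8, 0), (19, 0), (21, 1), (21, 4)], [(3, 0)], [(8, 3), (3, 1), (20, 3), (20, 0), (20, 2), (21, 2)], [(4, 0), (9, 1)], [(5, 0), (14, 0), (8, 4), (16, 0)], [(5, 1), (16, 2), (10, 3), (21, 3)], [(9, 2), (6, 0), (15, 1), (13, 1)], [(6, 1), (13, 3), (10, 2)], [(19, 1), (10, 4), (18, 4), (11, 1), (13, 0), (18, 1)], [(7, 1)]], [], by decide +kernel⟩, by decide +kernel, Or.inl ⟨rfl, all⟩⟩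

theorem bound {Γ : Type*} [Group Γ] {x : ℕ → Γ} (hR : ∀ r ∈ R, ev x r = 1) {n : ℕ}
    (h : CardLe x [0, 3, 4, 5, 14, 15, 16, 17, 18, 19] n) : CardLe x [0, 3, 4, 5, 10, 11, 12, 13, 14, 15, 16, 17, 18, 19] (16 * n) :=
  cert.cardLe rfl hR h

end Cfsg.Agent.H3.G24.Tc3
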