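import Cfsg.Agent.L0.CosetChain

/-! Generated coset table certificate. -/

set_option autoImplicit false
set_option maxRecDepth 100000

open Cfsg.Agent.L0

namespace Cfsg.Agent.H3.G24.Tc4

noncomputable def t0 : BT := .node (.leaf (nat_lit 0x47a87a49ca9c43741200000000000000000000000048845a4a800000062c9862cf2d528f71b6824c5000000000000000000000000096ec489ce0000008732dc52592192d9a999320ac0000000000000000000000012590492d800000190e1f8a5e21645524521a20880000000000000000000000025a80626280000021d2c3049b82b4c94394116250000000000000000000000004944374c400000000b56e09c69a6866c460140120000000000000000000000009c68229e60000008ac8fc14093c9a0924802001c0000000000000000000000018880192880000010450781009009009008028020000000000000000000000001008019008000000010000)) (.leaf (nat_lit 0x435aa54a888847b4560000000000000000000000004bc4154cc00000043887e88699089cecce86ccd80000000000000000000000009368d29d600000082903cd2211a19d52d50e504c00000000000000000000000122a12132800000209661934bb43b1255a209b1500000000000000000000000025cb2da64800000513cb72))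

noncomputable def tree : BT := t0

noncomputable def row : ℕ → ℕ := rowOf tree (nat_lit 3) (nat_lit 7) (nat_lit 255) (nat_lit 0x7fffffffffffffffffffffffffffffffffffffffffffffffffffffffffffffff)

noncomputable def cols : List Col := [⟨nat_lit 15, nat_lit 0, [([nat_lit 15], nat_lit 0), ([nat_lit 63, nat_lit 183, nat_lit 15, nat_lit 195], nat_lit 0), ([nat_lit 183, nat_lit 63, nat_lit 195], nat_lit 0), ([nat_lit 195, nat_lit 15, nat_lit 63, nat_lit 183], nat_lit 0)]⟩,
  ⟨nat_lit 51, nat_lit 1, [([nat_lit 75, nat_lit 207, nat_lit 207], nat_lit 0)]⟩,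
  ⟨nat_lit 63, nat_lit 0, [([nat_lit 63], nat_lit 0), ([nat_lit 195, nat_lit 15, nat_lit 183], nat_lit 0), ([nat_lit 183, nat_lit 15, nat_lit 195, nat_lit 15], nat_lit 0)]⟩,
  ⟨nat_lit 75, nat_lit 1, [([nat_lit 231, nat_lit 231], nat_lit 0), ([nat_lit 15, nat_lit 75, nat_lit 15], nat_lit 0)]⟩,
  ⟨nat_lit 183, nat_lit 0, [([nat_lit 195], nat_lit 0), ([nat_lit 183, nat_lit 183], nat_lit 0), ([nat_lit 15, nat_lit 195, nat_lit 15, nat_lit 63], nat_lit 0)]⟩,
  ⟨nat_lit 195, nat_lit 0, [([nat_lit 183], nat_lit 0), ([nat_lit 15, nat_lit 183, nat_lit 63], nat_lit 0)]⟩,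
  ⟨nat_lit 207, nat_lit 1, [([nat_lit 219], nat_lit 0), ([nat_lit 63, nat_lit 207, nat_lit 63], nat_lit 0), ([nat_lit 243, nat_lit 219, nat_lit 231], nat_lit 0), ([nat_lit 183, nat_lit 231, nat_lit 15, nat_lit 195, nat_lit 231], nat_lit 0)]⟩,
  ⟨nat_lit 219, nat_lit 1, [([nat_lit 207], nat_lit 0), ([nat_lit 195, nat_lit 231, nat_lit 63, nat_lit 183], nat_lit 0), ([nat_lit 231, nat_lit 207, nat_lit 243], nat_lit 0)]⟩,
  ⟨nat_lit 231, nat_lit 1, [([nat_lit 63, nat_lit 183, nat_lit 219, nat_lit 195], nat_lit 0), ([nat_lit 243], nat_lit 0), ([nat_lit 15, nat_lit 195, nat_lit 231, nat_lit 207, nat_lit 183], nat_lit 0), ([nat_lit 207, nat_lit 243, nat_lit 219], nat_lit 0), ([nat_lit 207, nat_lit 183, nat_lit 231, nat_lit 15, nat_lit 195], nat_lit 0)]⟩,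
  ⟨nat_lit 243, nat_lit 1, [([nat_lit 231], nat_lit 0), ([nat_lit 219, nat_lit 231, nat_lit 207], nat_lit 0)]⟩]

noncomputable def erots : List (List ℕ × ℕ) := []

noncomputable def gens : List ℕ := [nat_lit 15, nat_lit 51, nat_lit 63, nat_lit 75, nat_lit 183, nat_lit 195, nat_lit 207, nat_lit 219, nat_lit 231, nat_lit 243]

noncomputable def chk : ℕ → Bool := chkRow0 row (nat_lit 12) (nat_lit 0xf) (nat_lit 0x1f0) (nat_lit 9) (nat_lit 0x7) (nat_lit 0) (nat_lit 0xf) (nat_lit 4) (nat_lit 0x1ff) (nat_lit 0x6000) [] cols gens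

theorem b0 : allR chk 4 0 = true := by decide +kernel

noncomputable def T : CT := ⟨row, nat_lit 12, nat_lit 12, nat_lit 0xf, nat_lit 0x1f0, nat_lit 9, nat_lit 0x7, nat_lit 0, nat_lit 0xf, nat_lit 4, nat_lit 0x1ff, nat_lit 0x6000, nat_lit 255, nat_lit 255, nat_lit 0, nat_lit 6, [], cols, erots, gens⟩

theorem all : ∀ c < 12, chk c = true := fun c hc =>
  allR_glue (d := 4) (n := 1) (forall_lt_succ' forall_lt_zero' b0) c (lt_of_lt_of_le hc (by norm_num))

/-- the relators used -/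
def R : List (List ℕ) := [[nat_lit 0, nat_lit 0],
  [nat_lit 4, nat_lit 4],
  [nat_lit 14, nat_lit 15],
  [nat_lit 16, nat_lit 17],
  [nat_lit 18, nat_lit 19],
  [nat_lit 4, nat_lit 14, nat_lit 17, nat_lit 15, nat_lit 18],
  [nat_lit 5, nat_lit 18, nat_lit 18],
  [nat_lit 5, nat_lit 16, nat_lit 16, nat_lit 3],
  [nat_lit 18, nat_lit 16, nat_lit 19, nat_lit 17],
  [nat_lit 14, nat_lit 14, nat_lit 14],
  [nat_lit 4, nat_lit 16, nat_lit 4, nat_lit 16],
  [nat_lit 14, nat_lit 4, nat_lit 15, nat_lit 0],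
  [nat_lit 0, nat_lit 4, nat_lit 14, nat_lit 0, nat_lit 15],
  [nat_lit 14, nat_lit 18, nat_lit 0, nat_lit 15, nat_lit 18, nat_lit 16],
  [nat_lit 5, nat_lit 0, nat_lit 5, nat_lit 0]]

theorem cert : Cert T (R.map fun r => (r, 0)) ([3, 5, 16, 17, 18, 19].map fun y => (y, 0)) 15 12 [0, 3, 4, 5, 14, 15, 16, 17, 18, 19] :=
  ⟨by decide +kernel, ⟨[[(0, 0), (12, 0), (11, 3), (12, 3)], [(7, 3)], [(1, 0), (11, 1), (12, 1)], [(6, 0), (14, 0)], [(2, 0), (9, 0), (12, 2)], [(2, 1), (11, 2)], [(3, 0), (10, 1), (8, 1), (13, 5)], [(3, 1), (5, 2), (8, 3)], [(5, 4), (4, 0), (13, 1), (8, 0), (13, 4)], [(4, 1), (8, 2)]], [], by decide +kernel⟩, by decide +kernel, Or.inl ⟨rfl, all⟩⟩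

theorem bound {Γ : Type*} [Group Γ] {x : ℕ → Γ} (hR : ∀ r ∈ R, ev x r = 1) {n : ℕ}
    (h : CardLe x [3, 5, 16, 17, 18, 19] n) : CardLe x [0, 3, 4, 5, 14, 15, 16, 17, 18, 19] (12 * n) :=
  cert.cardLe rfl hR h

end Cfsg.Agent.H3.G24.Tc4
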