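import Cfsg.Agent.L0.CosetChain

/-! Generated coset table certificate. -/

set_option autoImplicit false
set_option maxRecDepth 100000

open Cfsg.Agent.L0

namespace Cfsg.Agent.H3.G24.Tc5

noncomputable def t0 : BT := .node (.leaf (nat_lit 0x46b64c6e4645000000000000000000000000000000422000723000000000898146342165046e0000000000000000000000000000004660006ac0000000005e8042184346f84d0000000000000000000000000000006470006ab0000000005d0001000f46842100000000000000000000000000000052900072a0000000005b8000e00d4215080000000000000000000000000000004ea0005290000000005a0046664758964a000000000000000000000000000000421000548000000000498000c00b00a00900000000000000000000000000000000800042100000000046800070060050040000000000000000000000000000000030000020000000000000)) (.leaf (nat_lit 0x6a942566b46700000000000000000000000000000046f0004ad0000000009e844254e94ac8460000000000000000000000000000006500004ae0000000009d0468a4246476cb00000000000000000000000000000046d00068f0000000009e834244aa4666cc00000000000000000000000000000064e0006900000000009d034684224ed88f00000000000000000000000000000046b0004c70000000009e814228484ee49000000000000000000000000000000064c0004c60000000009d0168d4ae4634220000000000000000000000000000006c40005450000000009b816cf4d04227630000000000000000000000000000007050007040000000009a01))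

noncomputable def tree : BT := t0

noncomputable def row : ℕ → ℕ := rowOf tree (nat_lit 3) (nat_lit 7) (nat_lit 256) (nat_lit 0xffffffffffffffffffffffffffffffffffffffffffffffffffffffffffffffff)

noncomputable def cols : List Col := [⟨nat_lit 52, nat_lit 0, [([nat_lit 52], nat_lit 0), ([nat_lit 76, nat_lit 208, nat_lit 208], nat_lit 0)]⟩,
  ⟨nat_lit 76, nat_lit 0, [([nat_lit 76], nat_lit 0), ([nat_lit 232, nat_lit 232], nat_lit 0)]⟩,
  ⟨nat_lit 208, nat_lit 0, [([nat_lit 220], nat_lit 0), ([nat_lit 208, nat_lit 52, nat_lit 76], nat_lit 0), ([nat_lit 244, nat_lit 220, nat_lit 232], nat_lit 0)]⟩,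
  ⟨nat_lit 220, nat_lit 0, [([nat_lit 208], nat_lit 0), ([nat_lit 232, nat_lit 208, nat_lit 244], nat_lit 0)]⟩,
  ⟨nat_lit 232, nat_lit 0, [([nat_lit 244], nat_lit 0), ([nat_lit 232, nat_lit 76], nat_lit 0), ([nat_lit 76, nat_lit 232], nat_lit 0)]⟩,
  ⟨nat_lit 244, nat_lit 0, [([nat_lit 232], nat_lit 0), ([nat_lit 220, nat_lit 232, nat_lit 208], nat_lit 0)]⟩]

noncomputable def erots : List (List ℕ × ℕ) := []

noncomputable def gens : List ℕ := [nat_lit 52, nat_lit 76, nat_lit 208, nat_lit 220, nat_lit 232, nat_lit 244]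

noncomputable def chk : ℕ → Bool := chkRow0 row (nat_lit 16) (nat_lit 0x1f) (nat_lit 0x1e0) (nat_lit 9) (nat_lit 0x7) (nat_lit 0) (nat_lit 0x1f) (nat_lit 5) (nat_lit 0x1ff) (nat_lit 0xc000) [] cols gens

theorem b0 : allR chk 4 0 = true := by decide +kernel

noncomputable def T : CT := ⟨row, nat_lit 16, nat_lit 16, nat_lit 0x1f, nat_lit 0x1e0, nat_lit 9, nat_lit 0x7, nat_lit 0, nat_lit 0x1f, nat_lit 5, nat_lit 0x1ff, nat_lit 0xc000, nat_lit 256, nat_lit 256, nat_lit 0, nat_lit 4, [], cols, erots, gens⟩

theorem all : ∀ c < 16, chk c = true := fun c hc =>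
  allR_glue (d := 4) (n := 1) (forall_lt_succ' forall_lt_zero' b0) c (lt_of_lt_of_le hc (by norm_num))

/-- the relators used -/
def R : List (List ℕ) := [[nat_lit 3, nat_lit 3],
  [nat_lit 5, nat_lit 5],
  [nat_lit 16, nat_lit 17],
  [nat_lit 18, nat_lit 19],
  [nat_lit 5, nat_lit 18, nat_lit 18],
  [nat_lit 5, nat_lit 16, nat_lit 16, nat_lit 3],
  [nat_lit 18, nat_lit 16, nat_lit 19, nat_lit 17]]

theorem cert : Cert T (R.map fun r => (r, 0)) ([].map fun y => (y, 0)) 16 12 [3, 5, 16, 17, 18, 19] :=
  ⟨by decide +kernel, ⟨[[(0, 0), (5, 3)], [(1, 0), (4, 0)], [(2, 0), (5, 1), (6, 1)], [(2, 1), (6, 3)], [(3, 0), (4, 1), (4, 2)], [(3, 1), (6, 2)]], [], by decide +kernel⟩, by decide +kernel, Or.inl ⟨rfl, all⟩⟩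

theorem bound {Γ : Type*} [Group Γ] {x : ℕ → Γ} (hR : ∀ r ∈ R, ev x r = 1) {n : ℕ}
    (h : CardLe x [] n) : CardLe x [3, 5, 16, 17, 18, 19] (16 * n) :=
  cert.cardLe rfl hR h

end Cfsg.Agent.H3.G24.Tc5
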